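import Mathlib
import Cfsg.Prelude.Def_HallClasses

/-!
# Hall subgroups of alternating groups: definitions (architect helper38)

`altSub α` is the alternating group of a finite type `α` as a subgroup of `Equiv.Perm α` (no `Fintype`/`DecidableEq`
instances needed to state it); `AltHall π H` says that the subgroup `H` of `Equiv.Perm α` is a Hall `π`-subgroup of
`altSub α`.
-/

set_option autoImplicit false

namespace Cfsg.Agent.Lib.Helper38.HallAlt

open Cfsg

/-- the alternating group of a finite type, as a subgroup of the symmetric group -/
noncomputable def altSub (α : Type) [Finite α] : Subgroup (Equiv.Perm α) := by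
  classical
  exact (letI := Fintype.ofFinite α; alternatingGroup α)

theorem altSub_eq (α : Type) [Fintype α] [DecidableEq α] : altSub α = alternatingGroup α := by
  unfold altSub
  congr!

theorem mem_altSub_iff {α : Type} [Fintype α] [DecidableEq α] (g : Equiv.Perm α) :
    g ∈ altSub α ↔ Equiv.Perm.sign g = 1 := by
  rw [altSub_eq, Equiv.Perm.mem_alternatingGroup]

instance altSub_normal (α : Type) [Finite α] : (altSub α).Normal := by
  classical
  let _ := Fintype.ofFinite α
  rw [altSub_eq]
  infer_instance

/-- `H` is a Hall `π`-subgroup of the alternating group -/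
def AltHall (π : Set ℕ) {α : Type} [Finite α] (H : Subgroup (Equiv.Perm α)) : Prop :=
  H ≤ altSub α ∧ (∀ p : ℕ, p.Prime → p ∣ Nat.card H → p ∈ π) ∧
    ∀ p : ℕ, p.Prime → p ∈ π → ¬ p ∣ H.relIndex (altSub α)

/-- the alternating group of `α` has a Hall `π`-subgroup -/
def AltE (π : Set ℕ) (α : Type) [Finite α] : Prop :=
  ∃ H : Subgroup (Equiv.Perm α), AltHall π H

end Cfsg.Agent.Lib.Helper38.HallAlt
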