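import Mathlib
import Cfsg.Prelude.Def_HallClasses
import Cfsg.Agent.Lib.Helper06.HallSym.Main
import Cfsg.Agent.Lib.Helper38.HallAlt.Defs

/-!
# Hall subgroups of alternating groups: the induction (architect helper38)

If the alternating group of `α` has a Hall `π`-subgroup and `2 ∈ π` then `Cls π |α|`.
-/

set_option autoImplicit false
open Cfsg
open scoped Pointwise

namespace Cfsg.Agent.Lib.Helper38.HallAlt

open Cfsg.Agent.Lib.Helper06.HallSym

/-- the bundle of keystone facts used by the induction for alternating groups -/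
structure AKeys : Prop where
  cyc : ∀ (π : Set ℕ) {α : Type} [Finite α] (H : Subgroup (Equiv.Perm α)), AltHall π H →
    ∀ p : ℕ, p.Prime → p ≠ 2 → p ∈ π → p ≤ Nat.card α → ∃ g ∈ H, g.IsCycle ∧ {x | g x ≠ x}.ncard = p
  intrans : ∀ (π : Set ℕ), 2 ∈ π → ∀ {α : Type} [Finite α] (H : Subgroup (Equiv.Perm α)), AltHall π H → ∀ x : α,
    MulAction.orbit ↥H x ≠ Set.univ → 3 ≤ Nat.card α →
    (2 ≤ Nat.card α - (MulAction.orbit ↥H x).ncard → IsEPiGroup π (Equiv.Perm ↥(MulAction.orbit ↥H x))) ∧
    (2 ≤ (MulAction.orbit ↥H x).ncard → IsEPiGroup π (Equiv.Perm ↥((MulAction.orbit ↥H x)ᶜ : Set α))) ∧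
    (Nat.card α - (MulAction.orbit ↥H x).ncard ≤ 1 → AltE π ↥(MulAction.orbit ↥H x)) ∧
    ((MulAction.orbit ↥H x).ncard ≤ 1 → AltE π ↥((MulAction.orbit ↥H x)ᶜ : Set α)) ∧
    (∀ p : ℕ, p.Prime → p ∈ π → ¬ p ∣ Nat.choose (Nat.card α) (MulAction.orbit ↥H x).ncard) ∧
    (∀ p : ℕ, p.Prime → p ∣ (MulAction.orbit ↥H x).ncard → p ∈ π)
  block : ∀ (π : Set ℕ), 2 ∈ π → ∀ {α : Type} [Finite α] (H : Subgroup (Equiv.Perm α)),
    AltHall π H → MulAction.IsPretransitive ↥H α → ∀ B : Set α,
    MulAction.IsBlock ↥H B → 1 < B.ncard → B.ncard < Nat.card α →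
    ∃ b : ℕ, 2 ≤ b ∧ B.ncard * b = Nat.card α ∧
      IsEPiGroup π (Equiv.Perm ↥(Bᶜ : Set α)) ∧
      (∀ p : ℕ, p.Prime → p ∣ Nat.card α → p ∈ π) ∧
      (∀ p : ℕ, p.Prime → p ∈ π → ¬ p ∣ Nat.choose (Nat.card α - 1) (B.ncard - 1))
  card2 : ∀ (π : Set ℕ) {α : Type} [Finite α] (H : Subgroup (Equiv.Perm α)),
    AltHall π H → 2 ∈ π → ∀ p : ℕ, p.Prime → p ≠ 2 → p ∈ π → p ≤ Nat.card α → Nat.card α < 2 * p →
    (∀ r : ℕ, r.Prime → r ∈ π → r ≤ Nat.card α → r = 2 ∨ r = p) →
    Nat.card H = 2 ^ (padicValNat 2 (Nat.card α).factorial - 1) * p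
  p1 : ∀ {α : Type} [Finite α] (H : Subgroup (Equiv.Perm α)), MulAction.IsPreprimitive ↥H α →
    ∀ g : Equiv.Perm α, g ∈ H → g.IsCycle → ∀ p : ℕ, p.Prime → {x | g x ≠ x}.ncard = p →
    p + 2 ≤ Nat.card α → 3 ∣ Nat.card H
  p2 : ∀ {α : Type} [Finite α] (H : Subgroup (Equiv.Perm α)), MulAction.IsPreprimitive ↥H α →
    ∀ g : Equiv.Perm α, g ∈ H → g.IsCycle → ∀ p : ℕ, p.Prime → {x | g x ≠ x}.ncard = p →
    p + 1 = Nat.card α → Nat.card α * (Nat.card α - 1) ∣ Nat.card H
  p3 : ∀ {α : Type} [Finite α] (H : Subgroup (Equiv.Perm α)), H ≤ altSub α →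
    MulAction.IsPreprimitive ↥H α → ∀ p a : ℕ, p.Prime → p % 4 = 3 → Nat.card α = p + 1 →
    Nat.card H = 2 ^ a * p → p + 1 < 2 ^ a → False
  p4 : ∀ {α : Type} [Finite α] (H : Subgroup (Equiv.Perm α)), MulAction.IsPretransitive ↥H α →
    ∀ p a : ℕ, p.Prime → p ≠ 2 → Nat.card α = p → Nat.card H = 2 ^ a * p → ¬ 2 ^ a ∣ p - 1 → False
  p5 : ∀ {α : Type} [Finite α] (H : Subgroup (Equiv.Perm α)), H ≤ altSub α →
    Nat.card α = 5 → Nat.card H = 20 → False
  n1 : ∀ n p a : ℕ, p.Prime → 5 ≤ p → n = p + 1 → a = padicValNat 2 n.factorial - 1 →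
    n * (n - 1) ∣ 2 ^ a * p → p % 4 = 3 ∧ p + 1 < 2 ^ a
  n2 : ∀ p : ℕ, p.Prime → 7 ≤ p → ¬ 2 ^ (padicValNat 2 p.factorial - 1) ∣ p - 1

/-- an AltHall subgroup equal to the whole alternating group forces all primes `≤ n` into `π` (`n ≥ 4`) -/
theorem all_primes_of_altSub {π : Set ℕ} {α : Type} [Finite α] (h4 : 4 ≤ Nat.card α)
    (hH : AltHall π (altSub α)) : ∀ r : ℕ, r.Prime → r ≤ Nat.card α → r ∈ π := by
  classical
  let _ := Fintype.ofFinite α
  intro r hr hrn
  apply hH.2.1 r hr
  have hnt : Nontrivial α := by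
    rw [← Finite.one_lt_card_iff_nontrivial]; omega
  have hcard : 2 * Nat.card (altSub α) = (Nat.card α).factorial := by
    rw [altSub_eq, two_mul_nat_card_alternatingGroup, Nat.card_perm]
  by_cases h : r = 2
  · subst h
    have h24 : (4 : ℕ).factorial ∣ (Nat.card α).factorial := Nat.factorial_dvd_factorial h4
    have h4' : 4 ∣ 2 * Nat.card (altSub α) := by
      rw [hcard]
      exact dvd_trans (by decide) h24
    omega
  · have hdvd : r ∣ 2 * Nat.card (altSub α) := by
      rw [hcard]; exact (Nat.Prime.dvd_factorial hr).mpr hrn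
    rcases (Nat.Prime.dvd_mul hr).mp hdvd with h' | h'
    · exfalso
      exact h ((Nat.prime_dvd_prime_iff_eq hr Nat.prime_two).mp h')
    · exact h'


/-- for `n ≤ 4` every `π` is trivial -/
theorem triv_of_le_four (π : Set ℕ) {n : ℕ} (hn : n ≤ 4) : Triv π n := by
  have hsmall : ∀ r : ℕ, r.Prime → r ≤ n → r = 2 ∨ r = 3 := by
    intro r hr hrn
    have h2 := hr.two_le
    have : r ≤ 4 := le_trans hrn hn
    interval_cases r
    · exact Or.inl rfl
    · exact Or.inr rfl
    · exact absurd hr (by decide)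
  by_cases h2 : 2 ∈ π
  · by_cases h3 : 3 ∈ π
    · right
      intro r hr hrn
      rcases hsmall r hr hrn with rfl | rfl
      · exact h2
      · exact h3
    · left
      intro r s hr hs hrn hsn hrπ hsπ
      rcases hsmall r hr hrn with rfl | rfl
      · rcases hsmall s hs hsn with rfl | rfl
        · rfl
        · exact absurd hsπ h3
      · exact absurd hrπ h3
  · left
    intro r s hr hs hrn hsn hrπ hsπ
    rcases hsmall r hr hrn with rfl | rfl
    · exact absurd hrπ h2
    · rcases hsmall s hs hsn with rfl | rfl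
      · exact absurd hsπ h2
      · rfl

/-- the primitive case is impossible unless `π` is trivial -/
theorem false_of_prim (A : AKeys) (π : Set ℕ) (h2 : 2 ∈ π) {α : Type} [Finite α]
    (H : Subgroup (Equiv.Perm α)) (hH : AltHall π H) (hprim : MulAction.IsPreprimitive ↥H α)
    (h5 : 5 ≤ Nat.card α) (hT : ¬ Triv π (Nat.card α)) : False := by
  classical
  let _ := Fintype.ofFinite α
  -- an odd prime of `π`
  have hq : ∃ q : ℕ, q.Prime ∧ q ≠ 2 ∧ q ∈ π ∧ q ≤ Nat.card α := by
    by_contra hcon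
    push Not at hcon
    apply hT
    left
    intro r s hr hs hrn hsn hrπ hsπ
    have h1 : r = 2 := by
      by_contra h
      exact absurd hrn (not_le.mpr (hcon r hr h hrπ))
    have h1' : s = 2 := by
      by_contra h
      exact absurd hsn (not_le.mpr (hcon s hs h hsπ))
    rw [h1, h1']
  obtain ⟨p, hp, hp2, hpπ, hpn⟩ := hq
  by_cases h3 : 3 ∈ π
  · obtain ⟨g, hgH, hgc, hg3⟩ := A.cyc π H hH 3 Nat.prime_three (by norm_num) h3 (by omega)
    have h3c : g.IsThreeCycle := by
      rw [← card_support_eq_three_iff]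
      rw [← hg3, Set.ncard_eq_toFinset_card']
      congr 1
      ext x
      simp
    have hle : alternatingGroup α ≤ H :=
      Equiv.Perm.alternatingGroup_le_of_isPreprimitive_of_isThreeCycle_mem hprim h3c hgH
    have hHeq : H = altSub α := le_antisymm hH.1 (by rw [altSub_eq]; exact hle)
    apply hT
    right
    exact all_primes_of_altSub (by omega) (hHeq ▸ hH)
  · -- every odd prime of `π` up to `n` is at least `n - 1`
    have hbig : ∀ r : ℕ, r.Prime → r ≠ 2 → r ∈ π → r ≤ Nat.card α → Nat.card α ≤ r + 1 := by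
      intro r hr hr2 hrπ hrn
      by_contra hlt
      push Not at hlt
      obtain ⟨g, hgH, hgc, hgr⟩ := A.cyc π H hH r hr hr2 hrπ hrn
      have := A.p1 H hprim g hgH hgc r hr hgr (by omega)
      exact h3 (hH.2.1 3 Nat.prime_three this)
    have hpn' := hbig p hp hp2 hpπ hpn
    have hp5 : 5 ≤ p := by
      have h2le := hp.two_le
      by_contra hlt
      push Not at hlt
      interval_cases p
      · exact hp2 rfl
      · exact h3 hpπ
      · exact absurd hp (by decide)
    have hall : ∀ r : ℕ, r.Prime → r ∈ π → r ≤ Nat.card α → r = 2 ∨ r = p := by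
      intro r hr hrπ hrn
      by_cases hr2 : r = 2
      · exact Or.inl hr2
      · right
        have hrn' := hbig r hr hr2 hrπ hrn
        by_contra hne
        -- `r` and `p` are `n - 1` and `n` in some order: one of them is even
        have hodd_r : r % 2 = 1 := by
          rcases hr.eq_two_or_odd with h | h
          · exact absurd h hr2
          · exact h
        have hodd_p : p % 2 = 1 := by
          rcases hp.eq_two_or_odd with h | h
          · exact absurd h hp2
          · exact h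
        omega
    have hcard := A.card2 π H hH h2 p hp hp2 hpπ hpn (by omega) hall
    obtain ⟨g, hgH, hgc, hgp⟩ := A.cyc π H hH p hp hp2 hpπ hpn
    rcases Nat.lt_or_ge p (Nat.card α) with hlt | hge
    · -- `n = p + 1`
      have hn : p + 1 = Nat.card α := by omega
      have hdvd := A.p2 H hprim g hgH hgc p hp hgp hn
      rw [hcard] at hdvd
      obtain ⟨h4, hlt'⟩ := A.n1 (Nat.card α) p _ hp hp5 hn.symm rfl hdvd
      exact A.p3 H hH.1 hprim p _ hp h4 hn.symm hcard hlt'
    · -- `n = p`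
      have hn : Nat.card α = p := le_antisymm hge hpn
      have htr : MulAction.IsPretransitive ↥H α := hprim.toIsPretransitive
      by_cases h7 : 7 ≤ p
      · have hnd := A.n2 p hp h7
        rw [hn] at hcard
        exact A.p4 H htr p _ hp hp2 hn hcard hnd
      · have hp5' : p = 5 := by
          have : p ≤ 6 := by omega
          interval_cases p
          · rfl
          · exact absurd hp (by decide)
        subst hp5'
        have h20 : Nat.card H = 20 := by
          rw [hcard, hn]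
          have : padicValNat 2 (Nat.factorial 5) = 3 := by
            have : Nat.factorial 5 = 2 ^ 3 * 15 := by decide
            rw [this, padicValNat.mul (by norm_num) (by norm_num), padicValNat.prime_pow]
            have : padicValNat 2 15 = 0 := padicValNat.eq_zero_of_not_dvd (by norm_num)
            omega
          rw [this]
          norm_num
        exact A.p5 H hH.1 hn h20


/-- The induction: if `Alt(α)` has a Hall `π`-subgroup and `2 ∈ π` then `Cls π |α|`. -/
theorem cls_of_altE_aux (K : Keys) (A : AKeys) : ∀ (N : ℕ) (α : Type) [Finite α], Nat.card α = N →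
    ∀ π : Set ℕ, 2 ∈ π → AltE π α → Cls π N := by
  intro N
  induction N using Nat.strong_induction_on with
  | _ N ih =>
  intro α _ hN π h2 hE
  by_cases hT : Triv π N
  · exact Or.inl hT
  have h5 : 5 ≤ N := by
    by_contra h
    exact hT (triv_of_le_four π (by omega))
  obtain ⟨H, hH⟩ := hE
  have hne : Nonempty α := by
    rw [← Nat.card_pos_iff.trans ⟨fun h => h.1, fun h => ⟨h, inferInstance⟩⟩]
    omega
  by_cases htr : MulAction.IsPretransitive ↥H α
  · by_cases hprim : MulAction.IsPreprimitive ↥H α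
    · exact (false_of_prim A π h2 H hH hprim (hN ▸ h5) (hN ▸ hT)).elim
    · -- imprimitive: a nontrivial block
      have hex : ∃ B : Set α, MulAction.IsBlock ↥H B ∧ ¬ MulAction.IsTrivialBlock B := by
        by_contra hcon
        apply hprim
        refine { toIsPretransitive := htr, isTrivialBlock_of_isBlock := ?_ }
        intro B hB
        by_contra hnt
        exact hcon ⟨B, hB, hnt⟩
      obtain ⟨B, hB, hBnt⟩ := hex
      have hBns : ¬ B.Subsingleton := fun h => hBnt (Or.inl h)
      have hBnu : B ≠ Set.univ := fun h => hBnt (Or.inr h)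
      have h1 : 1 < B.ncard := by
        rw [Set.one_lt_ncard_iff (Set.toFinite B)]
        rw [Set.not_subsingleton_iff] at hBns
        obtain ⟨a, ha, b, hb, hab⟩ := hBns
        exact ⟨a, b, ha, hb, hab⟩
      have h2' : B.ncard < Nat.card α := by
        rw [← Set.ncard_univ]
        apply Set.ncard_lt_ncard _ (Set.toFinite _)
        exact Set.ssubset_univ_iff.mpr hBnu
      obtain ⟨b, hb2, hab, hEc, hnπ, hch⟩ := A.block π h2 H hH htr B hB h1 h2'
      set a := B.ncard with ha
      have hcard_c : Nat.card ↥(Bᶜ : Set α) = a * b - a := by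
        rw [Nat.card_coe_set_eq, Set.ncard_compl B (Set.toFinite B), ← hab]
      have hCc : Cls π (a * b - a) := cls_of_hall_aux K (a * b - a) ↥(Bᶜ : Set α) hcard_c π hEc
      have hle : ∀ p : ℕ, p.Prime → p ∈ π → p ≤ a * b → p ≤ a := by
        intro r hr hrπ hrab
        by_cases hr2 : r = 2
        · omega
        · obtain ⟨g, hgH, hgc, hgr⟩ := A.cyc π H hH r hr hr2 hrπ (hab ▸ hrab)
          exact K.cycblock H htr B hB h1 g hgH hgc r hr hgr
      have := K.impr π a b (by omega) hb2 hCc (fun r hr hrd => hnπ r hr (hab ▸ hrd))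
        (fun r hr hrπ => by rw [hab]; exact hch r hr hrπ) hle
      rw [hab, hN] at this
      exact this
  · -- intransitive
    obtain ⟨x⟩ := hne
    obtain ⟨Δ, hΔ⟩ : ∃ Δ : Set α, Δ = MulAction.orbit ↥H x := ⟨_, rfl⟩
    have hxΔ : x ∈ Δ := hΔ ▸ MulAction.mem_orbit_self x
    have ha1 : 1 ≤ Δ.ncard := by
      rw [Nat.one_le_iff_ne_zero, Ne, Set.ncard_eq_zero (Set.toFinite Δ)]
      exact Set.nonempty_iff_ne_empty.mp ⟨x, hxΔ⟩
    have hΔu : Δ ≠ Set.univ := by
      intro h
      apply htr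
      refine ⟨fun y z => ?_⟩
      have hy : y ∈ Δ := h ▸ Set.mem_univ y
      have hz : z ∈ Δ := h ▸ Set.mem_univ z
      rw [hΔ] at hy hz
      obtain ⟨g1, hg1⟩ := hy
      obtain ⟨g2, hg2⟩ := hz
      refine ⟨g2 * g1⁻¹, ?_⟩
      rw [← hg1, ← hg2, mul_smul, inv_smul_smul]
    have key := A.intrans π h2 H hH x (hΔ ▸ hΔu) (by omega)
    rw [← hΔ] at key
    obtain ⟨o1, o2, o3, o4, hch, haπ⟩ := key
    have haN : Δ.ncard < Nat.card α := by
      rw [← Set.ncard_univ]
      exact Set.ncard_lt_ncard (Set.ssubset_univ_iff.mpr hΔu) (Set.toFinite _)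
    have hca : Nat.card ↥Δ = Δ.ncard := Nat.card_coe_set_eq Δ
    have hcb : Nat.card ↥(Δᶜ : Set α) = Nat.card α - Δ.ncard := by
      rw [Nat.card_coe_set_eq, Set.ncard_compl Δ (Set.toFinite Δ)]
    have hCa : Cls π Δ.ncard := by
      by_cases hb2 : 2 ≤ Nat.card α - Δ.ncard
      · exact cls_of_hall_aux K Δ.ncard ↥Δ hca π (o1 hb2)
      · exact ih Δ.ncard (hN ▸ haN) ↥Δ hca π h2 (o3 (by omega))
    have hCb : Cls π (Nat.card α - Δ.ncard) := by
      by_cases ha2 : 2 ≤ Δ.ncard
      · exact cls_of_hall_aux K _ ↥(Δᶜ : Set α) hcb π (o2 ha2)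
      · exact ih (Nat.card α - Δ.ncard) (by omega) ↥(Δᶜ : Set α) hcb π h2 (o4 (by omega))
    have hsum : Δ.ncard + (Nat.card α - Δ.ncard) = Nat.card α := by omega
    have := K.intr π Δ.ncard (Nat.card α - Δ.ncard) ha1 (by omega) hCa hCb
      (fun r hr hrπ => by rw [hsum]; exact hch r hr hrπ) haπ
    rw [hsum, hN] at this
    exact this

end Cfsg.Agent.Lib.Helper38.HallAlt
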