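/-
Hall subgroups of alternating groups: assembly of the part-1 keystones into `akeys : AKeys`.
Architecture by helper38; keystones by helper30 (Y), helper57 (G3), helper63 (G5), helper67 (G6),
helper85 (C), helper13 (P1, P2), helper3 (P3), helper65 (P4), helper22 (P5), helper64 (N),
helper20 (G1, from the symmetric pack).
-/
import Cfsg.Agent.Lib.Helper38.HallAlt.Main
import Cfsg.Agent.Lib.Helper03.HallAltP3
import Cfsg.Agent.Lib.Helper13.HallAltP12
import Cfsg.Agent.Lib.Helper22.HallAltP5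
import Cfsg.Agent.Lib.Helper30.HallAltY
import Cfsg.Agent.Lib.Helper57.HallAltG3
import Cfsg.Agent.Lib.Helper63.HallAltG5
import Cfsg.Agent.Lib.Helper64.HallAltN
import Cfsg.Agent.Lib.Helper65.HallAltP4
import Cfsg.Agent.Lib.Helper67.HallAltG6
import Cfsg.Agent.Lib.Helper85.HallAltC
import Cfsg.Agent.Lib.Helper20.HallSymG1
import Cfsg.Agent.Lib.Helper06.HallSym.Keys

set_option autoImplicit false
set_option linter.unusedVariables false
open Cfsg

namespace Cfsg.Agent.Lib.Helper38.HallAlt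

theorem akeys : AKeys where
  cyc := fun π {α} _ H hH p hp hp2 hpπ hpn =>
    Cfsg.Agent.Lib.Helper57.HallAlt.alt_exists_cycle_mem π H hH p hp hp2 hpπ hpn
  intrans := fun π h2 {α} _ H hH x hx h3 =>
    Cfsg.Agent.Lib.Helper63.HallAlt.alt_intrans_step
      (fun {α} _ Δ => Cfsg.Agent.Lib.Helper20.HallSym.card_stabilizer_set Δ)
      (fun π h2 {α} _ K Δ hK hKA hπ hval =>
        Cfsg.Agent.Lib.Helper30.HallAlt.alt_young_hall π h2 K Δ hK hKA hπ hval)
      π h2 H hH x hx h3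
  block := fun π h2 {α} _ H hH htr B hB h1 h2' =>
    Cfsg.Agent.Lib.Helper67.HallAlt.alt_block_step
      (fun {α} _ Δ => Cfsg.Agent.Lib.Helper20.HallSym.card_stabilizer_set Δ)
      (fun π h2 {α} _ K Δ hK hKA hπ hval =>
        Cfsg.Agent.Lib.Helper30.HallAlt.alt_young_hall π h2 K Δ hK hKA hπ hval)
      π h2 H hH htr B hB h1 h2'
  card2 := fun π {α} _ H hH h2 p hp hp2 hpπ hpn hlt hr =>
    Cfsg.Agent.Lib.Helper85.HallAlt.altHall_card_of_two_primes π H hH h2 p hp hp2 hpπ hpn hlt hr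
  p1 := fun {α} _ H hprim g hg hc p hp hgp hpn =>
    Cfsg.Agent.Lib.Helper13.HallAlt.three_dvd_card_of_prim_cycle H hprim g hg hc p hp hgp hpn
  p2 := fun {α} _ H hprim g hg hc p hp hgp hpn =>
    Cfsg.Agent.Lib.Helper13.HallAlt.card_dvd_of_prim_cycle H hprim g hg hc p hp hgp hpn
  p3 := fun {α} _ H hHA hprim p a hp hp4 hn hcard ha =>
    Cfsg.Agent.Lib.Helper03.HallAlt.false_of_prim_mersenne H hHA hprim p a hp hp4 hn hcard ha
  p4 := fun {α} _ H htr p a hp hp2 hn hcard hnd =>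
    Cfsg.Agent.Lib.Helper65.HallAlt.false_of_trans_prime_degree H htr p a hp hp2 hn hcard hnd
  p5 := fun {α} _ H hHA h5 h20 =>
    Cfsg.Agent.Lib.Helper22.HallAlt.false_of_card_twenty H hHA h5 h20
  n1 := Cfsg.Agent.Lib.Helper64.HallAlt.mersenne_arith
  n2 := Cfsg.Agent.Lib.Helper64.HallAlt.prime_degree_arith

/-- **Hall-type necessity for alternating groups.** If `2 ∈ π` and `Alt(α)` has a Hall
`π`-subgroup, then `π` is of class `Triv`, `TypeA` or `TypeB` with respect to `|α|`. -/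
theorem cls_of_altE {α : Type} [Finite α] (π : Set ℕ) (h2 : 2 ∈ π) (hE : AltE π α) :
    Cfsg.Agent.Lib.Helper06.HallSym.Cls π (Nat.card α) :=
  cls_of_altE_aux Cfsg.Agent.Lib.Helper06.HallSym.keys akeys (Nat.card α) α rfl π h2 hE

end Cfsg.Agent.Lib.Helper38.HallAlt
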