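import Mathlib
import Cfsg.Prelude.Def_HallClasses
import Cfsg.Agent.Lib.Helper06.HallSym.Main
import Cfsg.Agent.Lib.Helper38.HallAlt.Main

/-!
# Hall subgroups of alternating groups: the row glue (architect helper38)

Everything is proved from the three bundles `Keys` (helper6), `AKeys` (part 1) and `BKeys` (part 2).
-/

set_option autoImplicit false
open Cfsg
open scoped Pointwise

namespace Cfsg.Agent.Lib.Helper38.HallAlt

open Cfsg.Agent.Lib.Helper06.HallSym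

/-- the bundle of the part 2 keystones -/
structure BKeys : Prop where
  l1 : ∀ {G : Type} [Group G] [Finite G] (N : Subgroup G) [N.Normal] (π : Set ℕ)
    (M₀ : Subgroup G), IsPiHall π M₀ → IsPiHall π (M₀.subgroupOf N)
  l2 : ∀ (π : Set ℕ) {α : Type} [Fintype α] [DecidableEq α] (M : Subgroup ↥(alternatingGroup α)),
    IsPiHall π M ↔ AltHall π (M.map (alternatingGroup α).subtype)
  l3 : ∀ (π : Set ℕ), 2 ∈ π → ∀ {α : Type} [Finite α] (M₀ : Subgroup (Equiv.Perm α)),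
    ¬ M₀ ≤ altSub α → AltHall π (M₀ ⊓ altSub α) → IsPiHall π M₀
  l4 : ∀ (π : Set ℕ), 2 ∉ π → ∀ {α : Type} [Finite α] (H : Subgroup (Equiv.Perm α)),
    AltHall π H → IsPiHall π H
  l8 : ∀ (π : Set ℕ) {α : Type} [Finite α] (M₀ : Subgroup (Equiv.Perm α)),
    IsPiHall π M₀ → AltHall π (M₀ ⊓ altSub α)
  t1 : ∀ (π : Set ℕ) {α : Type} [Finite α], Triv π (Nat.card α) → IsEPiGroup π (Equiv.Perm α)
  t2 : ∀ (π : Set ℕ) {α : Type} [Finite α], Triv π (Nat.card α) →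
    ∀ H K : Subgroup (Equiv.Perm α), IsPiHall π H → IsPiHall π K →
    ∃ g : Equiv.Perm α, K = H.map (MulAut.conj g).toMonoidHom
  t3 : ∀ (π : Set ℕ) {α : Type} [Finite α], Triv π (Nat.card α) →
    ∀ H K : Subgroup (Equiv.Perm α), AltHall π H → AltHall π K →
    ∃ g ∈ altSub α, K = H.map (MulAut.conj g).toMonoidHom
  t4 : ∀ (π : Set ℕ), 2 ∈ π → ∀ {α : Type} [Finite α], Triv π (Nat.card α) →
    ∀ H : Subgroup (Equiv.Perm α), AltHall π H →
    ∃ M₀ : Subgroup (Equiv.Perm α), IsPiHall π M₀ ∧ M₀ ⊓ altSub α = H ∧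
      (2 ≤ Nat.card α → ¬ M₀ ≤ altSub α)
  u1 : ∀ (π : Set ℕ) {α : Type} [Finite α], 5 ≤ Nat.card α → TypeA π (Nat.card α) →
    ∀ H : Subgroup (Equiv.Perm α),
    (IsPiHall π H → ∃ x : α, H = MulAction.stabilizer (Equiv.Perm α) x) ∧
    (AltHall π H → ∃ x : α, H = MulAction.stabilizer (Equiv.Perm α) x ⊓ altSub α)
  u2 : ∀ (π : Set ℕ) {α : Type} [Finite α], Nat.card α = 7 → TypeB π 7 →
    ∀ H : Subgroup (Equiv.Perm α),
    (IsPiHall π H → ∃ Δ : Set α, Δ.ncard = 3 ∧ H = MulAction.stabilizer (Equiv.Perm α) Δ) ∧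
    (AltHall π H → ∃ Δ : Set α, Δ.ncard = 3 ∧ H = MulAction.stabilizer (Equiv.Perm α) Δ ⊓ altSub α)
  u3 : ∀ (π : Set ℕ) {α : Type} [Finite α], Nat.card α = 8 → TypeB π 8 →
    ∀ H : Subgroup (Equiv.Perm α),
    (IsPiHall π H → ∃ B : Set α, B.ncard = 4 ∧
      H = MulAction.stabilizer (Equiv.Perm α) ({B, Bᶜ} : Set (Set α))) ∧
    (AltHall π H → ∃ B : Set α, B.ncard = 4 ∧
      H = MulAction.stabilizer (Equiv.Perm α) ({B, Bᶜ} : Set (Set α)) ⊓ altSub α)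
  u4 : ∀ {α : Type} [Finite α], 5 ≤ Nat.card α →
    (∀ x : α, ¬ MulAction.stabilizer (Equiv.Perm α) x ≤ altSub α) ∧
    (∀ Δ : Set α, Δ.ncard = 3 → ¬ MulAction.stabilizer (Equiv.Perm α) Δ ≤ altSub α) ∧
    (∀ B : Set α, B.ncard = 4 → ¬ MulAction.stabilizer (Equiv.Perm α) ({B, Bᶜ} : Set (Set α)) ≤ altSub α) ∧
    (∀ x y : α, ∃ g : Equiv.Perm α, MulAction.stabilizer (Equiv.Perm α) y =
      (MulAction.stabilizer (Equiv.Perm α) x).map (MulAut.conj g).toMonoidHom) ∧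
    (∀ Δ Δ' : Set α, Δ.ncard = Δ'.ncard → ∃ g : Equiv.Perm α, MulAction.stabilizer (Equiv.Perm α) Δ' =
      (MulAction.stabilizer (Equiv.Perm α) Δ).map (MulAut.conj g).toMonoidHom) ∧
    (∀ B B' : Set α, B.ncard = B'.ncard → ∃ g : Equiv.Perm α,
      MulAction.stabilizer (Equiv.Perm α) ({B', B'ᶜ} : Set (Set α)) =
      (MulAction.stabilizer (Equiv.Perm α) ({B, Bᶜ} : Set (Set α))).map (MulAut.conj g).toMonoidHom)
  l5 : ∀ {α : Type} [Finite α] (M₀ M₀' : Subgroup (Equiv.Perm α)) (g : Equiv.Perm α),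
    M₀' = M₀.map (MulAut.conj g).toMonoidHom → ¬ M₀ ≤ altSub α →
    ∃ a ∈ altSub α, M₀' ⊓ altSub α = (M₀ ⊓ altSub α).map (MulAut.conj a).toMonoidHom
  d1 : ∀ {G : Type} [Group G] [Finite G] (π : Set ℕ), IsDPiGroup π G →
    ∃ H : Subgroup G, IsPiHall π H ∧
      ∀ K : Subgroup G, IsPiSubgroup π K → ∃ g : G, K ≤ H.map (MulAut.conj g).toMonoidHom
  d2 : ∀ {G : Type} [Group G] [Finite G] (π : Set ℕ),
    ((∀ r s : ℕ, r.Prime → s.Prime → r ∈ π → s ∈ π → r ∣ Nat.card G → s ∣ Nat.card G → r = s) ∨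
      ∀ r : ℕ, r.Prime → r ∣ Nat.card G → r ∈ π) → IsDPiGroup π G
  d3 : ∀ (π : Set ℕ) {α : Type} [Finite α], 5 ≤ Nat.card α → TypeA π (Nat.card α) →
    ∃ K : Subgroup (Equiv.Perm α), K ≤ altSub α ∧ (∀ p : ℕ, p.Prime → p ∣ Nat.card K → p ∈ π) ∧
      ∀ x : α, ¬ K ≤ MulAction.stabilizer (Equiv.Perm α) x
  d4 : (∃ K : Subgroup (Equiv.Perm (Fin 7)), K ≤ altSub (Fin 7) ∧
      (∀ p : ℕ, p.Prime → p ∣ Nat.card K → p = 2 ∨ p = 3) ∧
      ∀ Δ : Set (Fin 7), Δ.ncard = 3 → ¬ K ≤ MulAction.stabilizer (Equiv.Perm (Fin 7)) Δ) ∧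
    (∃ K : Subgroup (Equiv.Perm (Fin 8)), K ≤ altSub (Fin 8) ∧
      (∀ p : ℕ, p.Prime → p ∣ Nat.card K → p = 2 ∨ p = 3) ∧
      ∀ B : Set (Fin 8), B.ncard = 4 →
        ¬ K ≤ MulAction.stabilizer (Equiv.Perm (Fin 8)) ({B, Bᶜ} : Set (Set (Fin 8))))

/-- in the non-trivial case the class is `TypeA` or `TypeB` and `n ≥ 5` -/
theorem nontriv_cases {π : Set ℕ} {n : ℕ} (hC : Cls π n) (hT : ¬ Triv π n) :
    5 ≤ n ∧ (TypeA π n ∨ TypeB π n) := by
  refine ⟨?_, ?_⟩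
  · by_contra h
    exact hT (triv_of_le_four π (by omega))
  · rcases hC with h | h | h
    · exact absurd h hT
    · exact Or.inl h
    · exact Or.inr h

/-- every AltHall subgroup (`2 ∈ π`) is the even part of a Hall subgroup of the symmetric group -/
theorem exists_hall_ext (K : Keys) (A : AKeys) (B : BKeys) (π : Set ℕ) (h2 : 2 ∈ π) {α : Type} [Finite α]
    (H : Subgroup (Equiv.Perm α)) (hH : AltHall π H) :
    ∃ M₀ : Subgroup (Equiv.Perm α), IsPiHall π M₀ ∧ M₀ ⊓ altSub α = H ∧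
      (2 ≤ Nat.card α → ¬ M₀ ≤ altSub α) := by
  have hC : Cls π (Nat.card α) := cls_of_altE_aux K A (Nat.card α) α rfl π h2 ⟨H, hH⟩
  by_cases hT : Triv π (Nat.card α)
  · exact B.t4 π h2 hT H hH
  obtain ⟨h5, hAB⟩ := nontriv_cases hC hT
  obtain ⟨f1, f2, f3, -, -, -⟩ := B.u4 (α := α) h5
  rcases hAB with hA | hB
  · obtain ⟨x, hx⟩ := (B.u1 π h5 hA H).2 hH
    refine ⟨MulAction.stabilizer (Equiv.Perm α) x, ?_, hx.symm, fun _ => f1 x⟩
    exact B.l3 π h2 _ (f1 x) (hx ▸ hH)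
  · rcases hB.1 with h7 | h8
    · obtain ⟨Δ, hΔ, hx⟩ := (B.u2 π h7 (h7 ▸ hB) H).2 hH
      refine ⟨MulAction.stabilizer (Equiv.Perm α) Δ, ?_, hx.symm, fun _ => f2 Δ hΔ⟩
      exact B.l3 π h2 _ (f2 Δ hΔ) (hx ▸ hH)
    · obtain ⟨Bk, hBk, hx⟩ := (B.u3 π h8 (h8 ▸ hB) H).2 hH
      refine ⟨MulAction.stabilizer (Equiv.Perm α) ({Bk, Bkᶜ} : Set (Set α)), ?_, hx.symm,
        fun _ => f3 Bk hBk⟩
      exact B.l3 π h2 _ (f3 Bk hBk) (hx ▸ hH)


/-- **S2538.** -/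
theorem hall_alt_iff (K : Keys) (A : AKeys) (B : BKeys) (n : ℕ) (π : Set ℕ)
    (M : Subgroup ↥(alternatingGroup (Fin n))) :
    IsPiHall π M ↔ ∃ M₀ : Subgroup (Equiv.Perm (Fin n)), IsPiHall π M₀ ∧
      M = M₀.subgroupOf (alternatingGroup (Fin n)) := by
  constructor
  · intro hM
    have hH : AltHall π (M.map (alternatingGroup (Fin n)).subtype) := (B.l2 π M).mp hM
    by_cases h2 : 2 ∈ π
    · obtain ⟨M₀, hM₀, hinf, -⟩ := exists_hall_ext K A B π h2 _ hH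
      refine ⟨M₀, hM₀, ?_⟩
      ext ⟨g, hg⟩
      rw [Subgroup.mem_subgroupOf]
      have h1 : g ∈ M₀ ⊓ altSub (Fin n) ↔ g ∈ M₀ := by
        rw [Subgroup.mem_inf, altSub_eq]
        exact ⟨fun h => h.1, fun h => ⟨h, hg⟩⟩
      rw [← h1, hinf, Subgroup.mem_map]
      constructor
      · intro h
        exact ⟨⟨g, hg⟩, h, rfl⟩
      · rintro ⟨y, hy, hyg⟩
        have : y = ⟨g, hg⟩ := Subtype.ext hyg
        rwa [← this]
    · refine ⟨M.map (alternatingGroup (Fin n)).subtype, B.l4 π h2 _ hH, ?_⟩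
      ext ⟨g, hg⟩
      rw [Subgroup.mem_subgroupOf, Subgroup.mem_map]
      constructor
      · intro h
        exact ⟨⟨g, hg⟩, h, rfl⟩
      · rintro ⟨y, hy, hyg⟩
        have : y = ⟨g, hg⟩ := Subtype.ext hyg
        rwa [← this]
  · rintro ⟨M₀, h, rfl⟩
    exact B.l1 (alternatingGroup (Fin n)) π M₀ h

/-- Hall subgroups of a symmetric group are conjugate -/
theorem conj_sym (K : Keys) (B : BKeys) (π : Set ℕ) {α : Type} [Finite α]
    (H L : Subgroup (Equiv.Perm α)) (hH : IsPiHall π H) (hL : IsPiHall π L) :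
    ∃ g : Equiv.Perm α, L = H.map (MulAut.conj g).toMonoidHom := by
  have hC : Cls π (Nat.card α) := cls_of_hall_aux K (Nat.card α) α rfl π ⟨H, hH⟩
  by_cases hT : Triv π (Nat.card α)
  · exact B.t2 π hT H L hH hL
  obtain ⟨h5, hAB⟩ := nontriv_cases hC hT
  obtain ⟨-, -, -, g1, g2, g3⟩ := B.u4 (α := α) h5
  rcases hAB with hA | hB
  · obtain ⟨x, hx⟩ := (B.u1 π h5 hA H).1 hH
    obtain ⟨y, hy⟩ := (B.u1 π h5 hA L).1 hL
    obtain ⟨g, hg⟩ := g1 x y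
    exact ⟨g, by rw [hy, hx, hg]⟩
  · rcases hB.1 with h7 | h8
    · obtain ⟨Δ, hΔ, hx⟩ := (B.u2 π h7 (h7 ▸ hB) H).1 hH
      obtain ⟨Δ', hΔ', hy⟩ := (B.u2 π h7 (h7 ▸ hB) L).1 hL
      obtain ⟨g, hg⟩ := g2 Δ Δ' (by rw [hΔ, hΔ'])
      exact ⟨g, by rw [hy, hx, hg]⟩
    · obtain ⟨Bk, hBk, hx⟩ := (B.u3 π h8 (h8 ▸ hB) H).1 hH
      obtain ⟨Bk', hBk', hy⟩ := (B.u3 π h8 (h8 ▸ hB) L).1 hL
      obtain ⟨g, hg⟩ := g3 Bk Bk' (by rw [hBk, hBk'])
      exact ⟨g, by rw [hy, hx, hg]⟩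

/-- AltHall subgroups are conjugate under the alternating group -/
theorem conj_alt (K : Keys) (A : AKeys) (B : BKeys) (π : Set ℕ) {α : Type} [Finite α]
    (H L : Subgroup (Equiv.Perm α)) (hH : AltHall π H) (hL : AltHall π L) :
    ∃ a ∈ altSub α, L = H.map (MulAut.conj a).toMonoidHom := by
  by_cases hT : Triv π (Nat.card α)
  · exact B.t3 π hT H L hH hL
  by_cases h2 : 2 ∈ π
  · have h5 : 5 ≤ Nat.card α := by
      by_contra h
      exact hT (triv_of_le_four π (by omega))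
    obtain ⟨M₀, hM₀, hinf, hodd⟩ := exists_hall_ext K A B π h2 H hH
    obtain ⟨M₀', hM₀', hinf', -⟩ := exists_hall_ext K A B π h2 L hL
    obtain ⟨g, hg⟩ := conj_sym K B π M₀ M₀' hM₀ hM₀'
    obtain ⟨a, ha, hconj⟩ := B.l5 M₀ M₀' g hg (hodd (by omega))
    exact ⟨a, ha, by rw [← hinf', ← hinf, hconj]⟩
  · exfalso
    have hHS : IsPiHall π H := B.l4 π h2 H hH
    have hC : Cls π (Nat.card α) := cls_of_hall_aux K (Nat.card α) α rfl π ⟨H, hHS⟩
    obtain ⟨h5, hAB⟩ := nontriv_cases hC hT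
    rcases hAB with hA | hB
    · exact h2 ((hA.2 2 Nat.prime_two (by omega)).mpr (by omega))
    · exact h2 ((hB.2 2 Nat.prime_two (by omega)).mpr (Or.inl rfl))

/-- **S2535.** -/
theorem hall_E_C (K : Keys) (A : AKeys) (B : BKeys) (n : ℕ) (π : Set ℕ) :
    (IsEPiGroup π (Equiv.Perm (Fin n)) ↔ IsCPiGroup π (Equiv.Perm (Fin n))) ∧
    (IsEPiGroup π (Equiv.Perm (Fin n)) ↔ IsEPiGroup π ↥(alternatingGroup (Fin n))) ∧
    (IsEPiGroup π ↥(alternatingGroup (Fin n)) ↔ IsCPiGroup π ↥(alternatingGroup (Fin n))) := by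
  refine ⟨⟨fun h => ⟨h, fun H L hH hL => conj_sym K B π H L hH hL⟩, fun h => h.1⟩,
    ⟨fun ⟨M₀, h⟩ => ⟨_, B.l1 (alternatingGroup (Fin n)) π M₀ h⟩, fun ⟨M, hM⟩ => ?_⟩,
    ⟨fun h => ⟨h, fun H L hH hL => ?_⟩, fun h => h.1⟩⟩
  · obtain ⟨M₀, hM₀, -⟩ := (hall_alt_iff K A B n π M).mp hM
    exact ⟨M₀, hM₀⟩
  · have hH' := (B.l2 π H).mp hH
    have hL' := (B.l2 π L).mp hL
    obtain ⟨a, ha, hconj⟩ := conj_alt K A B π _ _ hH' hL'
    rw [altSub_eq] at ha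
    refine ⟨⟨a, ha⟩, ?_⟩
    apply Subgroup.map_injective (alternatingGroup (Fin n)).subtype_injective
    rw [hconj, Subgroup.map_map, Subgroup.map_map]
    congr 1

/-- transfer of the `D_π` property of the alternating group to subgroups of the symmetric group -/
theorem le_conj_of_D (B : BKeys) {n : ℕ} (π : Set ℕ)
    (hD : IsDPiGroup π ↥(alternatingGroup (Fin n))) :
    ∃ H' : Subgroup (Equiv.Perm (Fin n)), AltHall π H' ∧
      ∀ K₀ : Subgroup (Equiv.Perm (Fin n)), K₀ ≤ altSub (Fin n) →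
        (∀ p : ℕ, p.Prime → p ∣ Nat.card K₀ → p ∈ π) →
        ∃ g : Equiv.Perm (Fin n), K₀ ≤ H'.map (MulAut.conj g).toMonoidHom := by
  obtain ⟨H, hH, hcont⟩ := B.d1 π hD
  refine ⟨H.map (alternatingGroup (Fin n)).subtype, (B.l2 π H).mp hH, ?_⟩
  intro K₀ hK₀ hπ
  rw [altSub_eq] at hK₀
  have hcard : Nat.card (K₀.subgroupOf (alternatingGroup (Fin n))) = Nat.card K₀ :=
    Nat.card_congr (Subgroup.subgroupOfEquivOfLe hK₀).toEquiv
  have hpi : IsPiSubgroup π (K₀.subgroupOf (alternatingGroup (Fin n))) := by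
    intro p hp hdvd
    rw [hcard] at hdvd
    exact hπ p hp hdvd
  obtain ⟨g, hg⟩ := hcont _ hpi
  refine ⟨(g : Equiv.Perm (Fin n)), ?_⟩
  intro k hk
  have hkA : k ∈ alternatingGroup (Fin n) := hK₀ hk
  have hk' : (⟨k, hkA⟩ : ↥(alternatingGroup (Fin n))) ∈ K₀.subgroupOf (alternatingGroup (Fin n)) := by
    rw [Subgroup.mem_subgroupOf]; exact hk
  obtain ⟨h, hh, hhk⟩ := Subgroup.mem_map.mp (hg hk')
  refine Subgroup.mem_map.mpr ⟨(h : Equiv.Perm (Fin n)), Subgroup.mem_map.mpr ⟨h, hh, rfl⟩, ?_⟩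
  have := congrArg Subtype.val hhk
  simpa using this

/-- primes dividing the order of the alternating group are at most the degree -/
theorem prime_le_of_dvd_card_alt {n : ℕ} {r : ℕ} (hr : r.Prime)
    (hdvd : r ∣ Nat.card ↥(alternatingGroup (Fin n))) : r ≤ n := by
  have h1 : Nat.card ↥(alternatingGroup (Fin n)) ∣ Nat.card (Equiv.Perm (Fin n)) :=
    Subgroup.card_subgroup_dvd_card _
  rw [Nat.card_perm] at h1
  have h2 : Nat.card (Fin n) = n := by simp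
  rw [h2] at h1
  exact (Nat.Prime.dvd_factorial hr).mp (dvd_trans hdvd h1)

/-- **S2534.** -/
theorem alt_D_iff (K : Keys) (A : AKeys) (B : BKeys) (n : ℕ) (hn : 5 ≤ n) (π : Set ℕ) :
    IsDPiGroup π ↥(alternatingGroup (Fin n)) ↔
      ((∀ r s : ℕ, r.Prime → s.Prime → r ∈ π → s ∈ π → r ∣ Nat.card ↥(alternatingGroup (Fin n)) →
          s ∣ Nat.card ↥(alternatingGroup (Fin n)) → r = s) ∨
        ∀ r : ℕ, r.Prime → r ∣ Nat.card ↥(alternatingGroup (Fin n)) → r ∈ π) := by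
  constructor
  · intro hD
    obtain ⟨H', hH', hcont⟩ := le_conj_of_D B π hD
    have hcardn : Nat.card (Fin n) = n := by simp
    have hC : Cls π n := by
      by_cases h2 : 2 ∈ π
      · exact cls_of_altE_aux K A n (Fin n) hcardn π h2 ⟨H', hH'⟩
      · exact cls_of_hall_aux K n (Fin n) hcardn π ⟨H', B.l4 π h2 H' hH'⟩
    rcases hC with hT | hA | hB
    · rcases hT with h | h
      · left
        intro r s hr hs hrπ hsπ hrd hsd
        exact h r s hr hs (prime_le_of_dvd_card_alt hr hrd) (prime_le_of_dvd_card_alt hs hsd) hrπ hsπ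
      · right
        intro r hr hrd
        exact h r hr (prime_le_of_dvd_card_alt hr hrd)
    · exfalso
      have h5 : 5 ≤ Nat.card (Fin n) := by rw [hcardn]; exact hn
      obtain ⟨K₀, hK₀A, hK₀π, hK₀⟩ := B.d3 π h5 (hcardn.symm ▸ hA)
      obtain ⟨g, hg⟩ := hcont K₀ hK₀A hK₀π
      obtain ⟨x, hx⟩ := (B.u1 π h5 (hcardn.symm ▸ hA) H').2 hH'
      apply hK₀ (g • x)
      rw [MulAction.stabilizer_smul_eq_stabilizer_map_conj]
      refine le_trans hg (Subgroup.map_mono ?_)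
      rw [hx]
      exact inf_le_left
    · exfalso
      have hπ23 : ∀ p : ℕ, p = 2 ∨ p = 3 → p ∈ π := by
        intro p hp
        have hpn : p ≤ n := by rcases hp with rfl | rfl <;> omega
        have hpp : p.Prime := by rcases hp with rfl | rfl <;> norm_num
        exact (hB.2 p hpp hpn).mpr hp
      rcases hB.1 with h7 | h8
      · subst h7
        obtain ⟨K₀, hK₀A, hK₀π, hK₀⟩ := B.d4.1
        obtain ⟨g, hg⟩ := hcont K₀ hK₀A (fun p hp hd => hπ23 p (hK₀π p hp hd))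
        obtain ⟨Δ, hΔ, hx⟩ := (B.u2 π hcardn hB H').2 hH'
        apply hK₀ (g • Δ) (by rw [Set.ncard_smul_set, hΔ])
        rw [MulAction.stabilizer_smul_eq_stabilizer_map_conj]
        refine le_trans hg (Subgroup.map_mono ?_)
        rw [hx]
        exact inf_le_left
      · subst h8
        obtain ⟨K₀, hK₀A, hK₀π, hK₀⟩ := B.d4.2
        obtain ⟨g, hg⟩ := hcont K₀ hK₀A (fun p hp hd => hπ23 p (hK₀π p hp hd))
        obtain ⟨Bk, hBk, hx⟩ := (B.u3 π hcardn hB H').2 hH'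
        apply hK₀ (g • Bk) (by rw [Set.ncard_smul_set, hBk])
        have hset : ({g • Bk, (g • Bk)ᶜ} : Set (Set (Fin 8))) = g • ({Bk, Bkᶜ} : Set (Set (Fin 8))) := by
          rw [Set.smul_set_insert, Set.smul_set_singleton, Set.smul_set_compl]
        rw [hset, MulAction.stabilizer_smul_eq_stabilizer_map_conj]
        refine le_trans hg (Subgroup.map_mono ?_)
        rw [hx]
        exact inf_le_left
  · intro h
    exact B.d2 π h

end Cfsg.Agent.Lib.Helper38.HallAlt
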