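/-
Hall subgroups of alternating groups: assembly of the part-2 keystones into `bkeys : BKeys`.
Architecture by helper38; keystones by helper52 (L1), helper67 (L2, U2), helper32 (L3), helper97 (L4),
helper11 (L8, L5), helper78 (T1, T2, T4), helper16 (T3), helper88 (U1), helper3 (U3), helper45 (U4),
helper19 (D1, D2), helper54 (D3), helper93 (D4).
-/
import Cfsg.Agent.Lib.Helper38.HallAlt.Rows
import Cfsg.Agent.Lib.Helper38.HallAlt.AKeysInst
import Cfsg.Agent.Lib.Helper52.HallAltL1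
import Cfsg.Agent.Lib.Helper67.HallAltL2
import Cfsg.Agent.Lib.Helper32.HallAltL3
import Cfsg.Agent.Lib.Helper97.HallAltL4
import Cfsg.Agent.Lib.Helper11.HallAltL8
import Cfsg.Agent.Lib.Helper78.HallAltT12
import Cfsg.Agent.Lib.Helper78.HallAltT4
import Cfsg.Agent.Lib.Helper16.HallAltT3
import Cfsg.Agent.Lib.Helper88.HallAltU1
import Cfsg.Agent.Lib.Helper67.HallAltU2
import Cfsg.Agent.Lib.Helper03.HallAltU3
import Cfsg.Agent.Lib.Helper45.HallAltU4
import Cfsg.Agent.Lib.Helper19.HallAltD1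
import Cfsg.Agent.Lib.Helper19.HallAltD2
import Cfsg.Agent.Lib.Helper54.HallAltD3
import Cfsg.Agent.Lib.Helper93.HallAltD4

set_option autoImplicit false
set_option linter.unusedVariables false
open Cfsg

namespace Cfsg.Agent.Lib.Helper38.HallAlt

theorem bkeys : BKeys where
  l1 := fun {G} _ _ N _ π M₀ h => Cfsg.Agent.Lib.Helper52.HallAlt.hall_subgroupOf_normal N π M₀ h
  l2 := fun π {α} _ _ M => Cfsg.Agent.Lib.Helper67.HallAlt.isPiHall_alt_iff π M
  l3 := fun π h2 {α} _ M₀ hodd h => Cfsg.Agent.Lib.Helper32.HallAlt.isPiHall_of_inf_altHall π h2 M₀ hodd h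
  l4 := fun π h2 {α} _ H hH => Cfsg.Agent.Lib.Helper97.HallAlt.isPiHall_of_altHall_of_two_not_mem π h2 H hH
  l8 := fun π {α} _ M₀ h => Cfsg.Agent.Lib.Helper11.HallAlt.altHall_inf_of_isPiHall π M₀ h
  t1 := fun π {α} _ hT => Cfsg.Agent.Lib.Helper78.HallAlt.hall_of_triv π hT
  t2 := fun π {α} _ hT H K hH hK => Cfsg.Agent.Lib.Helper78.HallAlt.conj_of_triv π hT H K hH hK
  t3 := fun π {α} _ hT H K hH hK => Cfsg.Agent.Lib.Helper16.HallAlt.alt_conj_of_triv π hT H K hH hK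
  t4 := fun π h2 {α} _ hT H hH => Cfsg.Agent.Lib.Helper78.HallAlt.exists_ext_of_triv π h2 hT H hH
  u1 := fun π {α} _ h5 hA H => Cfsg.Agent.Lib.Helper88.HallAlt.typeA_unique π h5 hA H
  u2 := fun π {α} _ h7 hB H => Cfsg.Agent.Lib.Helper67.HallAlt.typeB7_unique akeys π h7 hB H
  u3 := fun π {α} _ h8 hB H => Cfsg.Agent.Lib.Helper03.HallAlt.typeB8_unique akeys π h8 hB H
  u4 := fun {α} _ h5 => Cfsg.Agent.Lib.Helper45.HallAlt.stabilizers_facts h5
  l5 := fun {α} _ M₀ M₀' g hg hodd => Cfsg.Agent.Lib.Helper11.HallAlt.alt_conj_of_conj M₀ M₀' g hg hodd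
  d1 := fun {G} _ _ π hD => Cfsg.Agent.Lib.Helper19.HallAlt.hall_of_D π hD
  d2 := fun {G} _ _ π h => Cfsg.Agent.Lib.Helper19.HallAlt.D_of_trivial π h
  d3 := fun π {α} _ h5 hA => Cfsg.Agent.Lib.Helper54.HallAlt.typeA_counter π h5 hA
  d4 := Cfsg.Agent.Lib.Helper93.HallAlt.typeB_counter

end Cfsg.Agent.Lib.Helper38.HallAlt
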